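import Mathlib
import Cfsg.Agent.Lib.Helper69.APQ.Defs

/-!
# APQ (S4150), package [NTINEQ]

The main inequality of Bertrand's postulate with an extra factor `(2n)²`, for `n ≥ 2048`.
-/

set_option autoImplicit false

namespace Cfsg.Agent.Lib.Helper93.APQ

open Real

/-- the real inequality -/
theorem real_ineq {x : ℝ} (hx : (2048 : ℝ) ≤ x) :
    x * ((2 * x) ^ √(2 * x) * 4 ^ (2 * x / 3) * (2 * x) ^ (2 : ℝ)) ≤ 4 ^ x := by
  let f : ℝ → ℝ := fun x =>
    log x + (√(2 * x) * log (2 * x) + 2 * log (2 * x)) - log 4 / 3 * x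
  have hconc : ConcaveOn ℝ (Set.Ioi 0.5) f := by
    apply ConcaveOn.sub
    · apply ConcaveOn.add
      · exact strictConcaveOn_log_Ioi.concaveOn.subset
          (Set.Ioi_subset_Ioi (by norm_num)) (convex_Ioi 0.5)
      · have h1 : ConcaveOn ℝ (Set.Ioi (1 : ℝ)) (fun u => √u * log u + 2 * log u) := by
          apply ConcaveOn.add
          · exact strictConcaveOn_sqrt_mul_log_Ioi.concaveOn
          · have h2 := (strictConcaveOn_log_Ioi.concaveOn.subset
              (Set.Ioi_subset_Ioi (by norm_num : (0 : ℝ) ≤ 1)) (convex_Ioi 1)).smul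
              (by norm_num : (0 : ℝ) ≤ 2)
            exact h2
        convert! (h1.comp_linearMap ((2 : ℝ) • LinearMap.id)) using 1
        ext x
        simp only [Set.mem_Ioi, Set.mem_preimage, LinearMap.smul_apply,
          LinearMap.id_coe, id_eq, smul_eq_mul]
        rw [← mul_lt_mul_iff_right₀ (two_pos)]
        norm_num1
        rfl
    · apply ConvexOn.smul
      · exact div_nonneg (log_nonneg (by norm_num1)) (by norm_num1)
      · exact convexOn_id (convex_Ioi (0.5 : ℝ))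
  have hl2 : 0 < log 2 := log_pos (by norm_num)
  have hl4 : log (4 : ℝ) = 2 * log 2 := by
    rw [show (4 : ℝ) = 2 ^ 2 by norm_num, log_pow]
    norm_num
  have hf18 : 0 ≤ f 18 := by
    have hs : √(2 * 18 : ℝ) = 6 :=
      (sqrt_eq_iff_mul_self_eq_of_pos (by norm_num1)).mpr (by norm_num1)
    have h18 : 0 ≤ log (18 : ℝ) := log_nonneg (by norm_num)
    have h36 : log (4 : ℝ) ≤ log (2 * 18) := log_le_log (by norm_num) (by norm_num)
    change 0 ≤ log 18 + (√(2 * 18) * log (2 * 18) + 2 * log (2 * 18)) - log 4 / 3 * 18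
    rw [hs]
    rw [hl4] at h36 ⊢
    generalize log (2 * 18 : ℝ) = L at h36 ⊢
    generalize log (18 : ℝ) = M at h18 ⊢
    generalize log (2 : ℝ) = K at hl2 h36 ⊢
    linarith
  have hf2048 : f 2048 ≤ 0 := by
    have hs : √(2 * 2048 : ℝ) = 64 :=
      (sqrt_eq_iff_mul_self_eq_of_pos (by norm_num1)).mpr (by norm_num1)
    have h1 : log (2048 : ℝ) = 11 * log 2 := by
      rw [show (2048 : ℝ) = 2 ^ 11 by norm_num, log_pow]
      norm_num
    have h2 : log (2 * 2048 : ℝ) = 12 * log 2 := by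
      rw [show (2 * 2048 : ℝ) = 2 ^ 12 by norm_num, log_pow]
      norm_num
    change log 2048 + (√(2 * 2048) * log (2 * 2048) + 2 * log (2 * 2048)) - log 4 / 3 * 2048 ≤ 0
    rw [hs, h1, h2, hl4]
    generalize log (2 : ℝ) = K at hl2 ⊢
    linarith
  have hx0 : 0 < x := lt_of_lt_of_le (by norm_num) hx
  have hfx : f x ≤ 0 :=
    (hconc.right_le_of_le_left'' (show (18 : ℝ) ∈ Set.Ioi 0.5 by norm_num [Set.mem_Ioi])
      (show x ∈ Set.Ioi 0.5 by
        rw [Set.mem_Ioi]
        linarith)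
      (by norm_num : (18 : ℝ) < 2048) hx (hf2048.trans hf18)).trans hf2048
  have h2x : 0 < 2 * x := by positivity
  have hA : 0 < (2 * x) ^ √(2 * x) := rpow_pos_of_pos h2x _
  have hB : 0 < (4 : ℝ) ^ (2 * x / 3) := rpow_pos_of_pos (by norm_num) _
  have hC : 0 < (2 * x) ^ (2 : ℝ) := rpow_pos_of_pos h2x _
  have hL : 0 < x * ((2 * x) ^ √(2 * x) * 4 ^ (2 * x / 3) * (2 * x) ^ (2 : ℝ)) := by positivity
  rw [← log_le_log_iff hL (rpow_pos_of_pos (by norm_num) _), log_mul hx0.ne' (by positivity),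
    log_mul (by positivity) hC.ne', log_mul hA.ne' hB.ne', log_rpow h2x, log_rpow (by norm_num),
    log_rpow h2x, log_rpow (by norm_num)]
  have hfx' : log x + (√(2 * x) * log (2 * x) + 2 * log (2 * x)) - log 4 / 3 * x ≤ 0 := hfx
  linarith

/-- package [NTINEQ] -/
theorem pkgNTIneq : Cfsg.Agent.Lib.Helper69.APQ.PkgNTIneq := by
  intro n n_large
  rw [← @Nat.cast_le ℝ]
  simp only [Nat.cast_ofNat, Nat.cast_mul, Nat.cast_pow, ← Real.rpow_natCast]
  refine _root_.trans ?_ (real_ineq (by exact_mod_cast n_large))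
  gcongr
  · have n2_pos : 0 < 2 * n := by positivity
    exact mod_cast n2_pos
  · exact_mod_cast Real.nat_sqrt_le_real_sqrt
  · norm_num1
  · exact Nat.cast_div_le.trans (by norm_cast)

end Cfsg.Agent.Lib.Helper93.APQ
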